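import Groth.Prelude.Def_CAlgX
import Mathlib.LinearAlgebra.Matrix.ToLin
import Mathlib.LinearAlgebra.Matrix.Adjugate
import Mathlib.LinearAlgebra.Matrix.Determinant.Basic

/-!
# McCoy's theorem for rectangular matrices
-/

set_option autoImplicit false
universe u

open Matrix

namespace Groth.Agent.McCoy

variable {R : Type u} [CommRing R] {m n : ℕ} (M : Matrix (Fin n) (Fin m) R)

theorem minorIdeal_zero : CAlgX.minorIdeal M 0 = ⊤ :=
  (Ideal.eq_top_iff_one _).mpr (Ideal.subset_span ⟨(Fin.elim0, Fin.elim0), Matrix.det_isEmpty⟩)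

theorem minorIdeal_eq_bot_of_lt {r : ℕ} (hr : m < r) : CAlgX.minorIdeal M r = ⊥ := by
  rw [CAlgX.minorIdeal, Ideal.span_eq_bot]
  rintro _ ⟨⟨f, g⟩, rfl⟩
  obtain ⟨a, b, hab, hne⟩ : ∃ a b, g a = g b ∧ a ≠ b := by
    by_contra hc
    simp only [not_exists, not_and, not_not] at hc
    have := Fintype.card_le_of_injective g fun a b h => hc a b h
    simp at this
    omega
  exact Matrix.det_zero_of_column_eq hne fun i => by simp [hab]

theorem matrixRank_eq [Nontrivial R] (h : CAlgX.minorIdeal M m ≠ ⊥) : CAlgX.matrixRank M = m := by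
  refine le_antisymm (csSup_le ⟨m, h⟩ fun r hr => ?_) (le_csSup ⟨m, fun r hr => ?_⟩ h)
  · by_contra hlt
    exact hr (minorIdeal_eq_bot_of_lt M (not_le.mp hlt))
  · by_contra hlt
    exact hr (minorIdeal_eq_bot_of_lt M (not_le.mp hlt))

theorem injective_of_annihilator (h : (CAlgX.minorIdeal M m).annihilator = ⊥) :
    Function.Injective M.mulVecLin := by
  rw [injective_iff_map_eq_zero]
  intro x hx
  funext j
  rw [Pi.zero_apply, ← Submodule.mem_bot R, ← h, CAlgX.minorIdeal, Ideal.span, Submodule.mem_annihilator_span]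
  rintro ⟨_, ⟨⟨f, g⟩, rfl⟩⟩
  show x j * (M.submatrix f g).det = 0
  rw [mul_comm]
  by_cases hg : Function.Injective g
  · have hgb := hg.bijective_of_finite
    have h1 : (M.submatrix f g) *ᵥ (x ∘ g) = 0 := by
      funext i
      show ∑ k, M (f i) (g k) * x (g k) = 0
      rw [hgb.sum_comp fun k => M (f i) k * x k]
      exact congrFun hx (f i)
    have h2 := congrArg ((M.submatrix f g).adjugate *ᵥ ·) h1
    simp only [mulVec_mulVec, adjugate_mul, smul_mulVec, one_mulVec, mulVec_zero] at h2
    obtain ⟨k, rfl⟩ := hgb.surjective j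
    exact congrFun h2 k
  · obtain ⟨a, b, hab, hne⟩ := Function.not_injective_iff.mp hg
    rw [Matrix.det_zero_of_column_eq hne fun i => by simp [hab], zero_mul]

theorem annihilator_eq_bot_of_injective (h : Function.Injective M.mulVecLin) :
    (CAlgX.minorIdeal M m).annihilator = ⊥ := by
  classical
  rw [eq_bot_iff]
  intro a ha
  by_contra hne
  rw [Submodule.mem_bot] at hne
  let P : ℕ → Prop := fun r => ∀ x ∈ CAlgX.minorIdeal M r, a * x = 0
  have hPm : P m := fun x hx => Submodule.mem_annihilator.mp ha x hx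
  have hex : ∃ r, P r := ⟨m, hPm⟩
  have hle : Nat.find hex ≤ m := Nat.find_min' hex hPm
  have hpos : Nat.find hex ≠ 0 := fun h0 => hne (by
    have := (h0 ▸ Nat.find_spec hex : P 0) 1 (by rw [minorIdeal_zero]; trivial)
    rwa [mul_one] at this)
  obtain ⟨r, hr⟩ : ∃ r, Nat.find hex = r + 1 := ⟨Nat.find hex - 1, by omega⟩
  have hspec : P (r + 1) := hr ▸ Nat.find_spec hex
  obtain ⟨f, g, hfg⟩ : ∃ (f : Fin r → Fin n) (g : Fin r → Fin m), a * (M.submatrix f g).det ≠ 0 := by
    by_contra hc
    simp only [not_exists, not_not] at hc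
    refine Nat.find_min hex (show r < Nat.find hex by omega) fun x hx => ?_
    refine Submodule.span_induction (p := fun x _ => a * x = 0) ?_ (mul_zero a)
      (fun x y _ _ h1 h2 => by rw [mul_add, h1, h2, add_zero])
      (fun c x _ h1 => by rw [smul_eq_mul, mul_left_comm, h1, mul_zero]) hx
    rintro _ ⟨⟨f, g⟩, rfl⟩
    exact hc f g
  have hns : ¬ Function.Surjective g := fun hs => by
    have := Fintype.card_le_of_surjective g hs
    simp at this
    omega
  obtain ⟨j₀, hj₀⟩ : ∃ j₀, ∀ i, g i ≠ j₀ := by simpa [Function.Surjective] using hns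
  let g' : Fin (r + 1) → Fin m := Fin.cons j₀ g
  let v : Fin m → R := ∑ j : Fin (r + 1), Pi.single (g' j)
    (a * ((-1) ^ (j : ℕ) * (M.submatrix f (g' ∘ j.succAbove)).det))
  have hv : M.mulVecLin v = 0 := by
    funext i
    rw [map_sum, Finset.sum_apply]
    have hB := hspec _ (Ideal.subset_span ⟨(Fin.cons i f, g'), rfl⟩)
    change a * (M.submatrix (Fin.cons i f) g').det = 0 at hB
    rw [Matrix.det_succ_row_zero, Finset.mul_sum] at hB
    refine Eq.trans (Finset.sum_congr rfl fun j _ => ?_) hB
    rw [Matrix.mulVecLin_apply, Matrix.mulVec_single, Pi.smul_apply, MulOpposite.smul_eq_mul_unop]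
    simp only [MulOpposite.unop_op, Matrix.col_apply, submatrix_apply, Fin.cons_zero, submatrix_submatrix]
    rw [show (Fin.cons i f ∘ Fin.succ : Fin r → Fin n) = f from funext fun k => by simp]
    ring
  have hv0 := congrFun (h (hv.trans (map_zero _).symm)) j₀
  simp only [v, Pi.zero_apply, Fin.sum_univ_succ, Pi.add_apply, Finset.sum_apply] at hv0
  rw [Finset.sum_eq_zero (fun j _ => Pi.single_eq_of_ne (show j₀ ≠ g' j.succ from fun he => hj₀ j (by simpa [g'] using he.symm)) _), add_zero,
    show g' 0 = j₀ from rfl, Pi.single_eq_same, Fin.val_zero, pow_zero, one_mul,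
    show (g' ∘ (0 : Fin (r + 1)).succAbove : Fin r → Fin m) = g from funext fun k => by simp [g']] at hv0
  exact hfg hv0

theorem injective_iff [Nontrivial R] :
    Function.Injective M.mulVecLin ↔ CAlgX.matrixRank M = m ∧ (CAlgX.detIdeal M).annihilator = ⊥ := by
  constructor
  · intro h
    have ha := annihilator_eq_bot_of_injective M h
    have hr := matrixRank_eq M fun h0 => by
      rw [h0, Submodule.annihilator_bot] at ha
      exact top_ne_bot ha
    exact ⟨hr, by rw [CAlgX.detIdeal, hr]; exact ha⟩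
  · rintro ⟨hr, ha⟩
    rw [CAlgX.detIdeal, hr] at ha
    exact injective_of_annihilator M ha

end Groth.Agent.McCoy
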